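import Mathlib.AlgebraicGeometry.Morphisms.Finite
import Mathlib.RingTheory.Jacobson.Ring
import Mathlib.RingTheory.IntegralClosure.IsIntegralClosure.Basic
import Mathlib.RingTheory.Algebraic.Integral
import Mathlib.RingTheory.Localization.Integral

/-! Finite type points of schemes: points closed in some affine neighbourhood. -/

set_option autoImplicit false
universe u

open AlgebraicGeometry CategoryTheory TopologicalSpace

namespace Groth.Agent.Lib.FtPoint.Basic

theorem exists_inv_mem_away {R K : Type*} [CommRing R] [IsDomain R] [Field K] [Algebra R K]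
    [FaithfulSMul R K] [Algebra.FiniteType R K] :
    ∃ g : R, g ≠ 0 ∧ ∀ a : R, a ≠ 0 → ∃ (b : R) (n : ℕ), a * b = g ^ n := by
  classical
  let := FractionRing.liftAlgebra R K
  have : Algebra.FiniteType (FractionRing R) K := Algebra.FiniteType.of_restrictScalars_finiteType R _ K
  have : Module.Finite (FractionRing R) K := finite_of_finite_type_of_isJacobsonRing _ _
  obtain ⟨t, ht⟩ := (Algebra.FiniteType.out : (⊤ : Subalgebra R K).FG)
  have halg : ∀ x : K, ∃ P : Polynomial R, P ≠ 0 ∧ Polynomial.aeval x P = 0 := fun x =>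
    (IsFractionRing.isAlgebraic_iff R (FractionRing R) K).2
      ((IsIntegral.of_finite (FractionRing R) x).isAlgebraic)
  choose P hP0 hPx using halg
  let g : R := ∏ x ∈ t, (P x).leadingCoeff
  have hg : g ≠ 0 := Finset.prod_ne_zero_iff.2 fun x _ => Polynomial.leadingCoeff_ne_zero.2 (hP0 x)
  have hinj : Function.Injective (algebraMap R K) := FaithfulSMul.algebraMap_injective R K
  have hgK : algebraMap R K g ≠ 0 := (map_ne_zero_iff _ hinj).2 hg
  let S := Algebra.adjoin R ({(algebraMap R K g)⁻¹} : Set K)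
  have hS : Algebra.IsIntegral S K := by
    refine ⟨fun y => ?_⟩
    have hle : Algebra.adjoin R (t : Set K) ≤ (integralClosure S K).restrictScalars R := by
      refine Algebra.adjoin_le fun x hx => ?_
      obtain ⟨d, hd⟩ := Finset.dvd_prod_of_mem (fun x => (P x).leadingCoeff) hx
      have hd' : g = (P x).leadingCoeff * d := hd
      have hc : algebraMap R K (P x).leadingCoeff ≠ 0 :=
        (map_ne_zero_iff _ hinj).2 (Polynomial.leadingCoeff_ne_zero.2 (hP0 x))
      let u : S := algebraMap R S d * ⟨_, Algebra.subset_adjoin rfl⟩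
      have hu : u * algebraMap R S (P x).leadingCoeff = 1 := by
        apply Subtype.ext
        show algebraMap R K d * (algebraMap R K g)⁻¹ * algebraMap R K (P x).leadingCoeff = 1
        rw [hd', map_mul] at hgK ⊢
        field_simp
        exact div_self (right_ne_zero_of_mul hgK)
      refine ⟨Polynomial.C u * (P x).map (algebraMap R S), ?_, ?_⟩
      · refine Polynomial.monic_C_mul_of_mul_leadingCoeff_eq_one ?_
        rw [Polynomial.leadingCoeff_map_of_injective (f := algebraMap R S) ?_]
        · exact hu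
        · intro a b h
          exact hinj (congrArg Subtype.val h)
      · rw [← Polynomial.aeval_def, map_mul, Polynomial.aeval_map_algebraMap, hPx, mul_zero]
    exact hle (ht.ge (Algebra.mem_top : y ∈ ⊤))
  have hF : IsField S := isField_of_isIntegral_of_isField Subtype.val_injective (Field.toIsField K)
  refine ⟨g, hg, fun a ha => ?_⟩
  obtain ⟨w, hw⟩ := hF.mul_inv_cancel (a := algebraMap R S a) (fun h => ha (hinj (by
    rw [map_zero]; exact congrArg Subtype.val h)))
  have : ∀ z ∈ S, ∃ (n : ℕ) (r : R), z * algebraMap R K g ^ n = algebraMap R K r := by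
    intro z hz
    induction hz using Algebra.adjoin_induction with
    | mem z hz =>
      refine ⟨1, 1, ?_⟩
      rw [Set.mem_singleton_iff.1 hz, pow_one, inv_mul_cancel₀ hgK, map_one]
    | algebraMap r => exact ⟨0, r, by simp⟩
    | add x y _ _ hx hy =>
      obtain ⟨n, r, hr⟩ := hx
      obtain ⟨m, q, hq⟩ := hy
      refine ⟨n + m, r * g ^ m + q * g ^ n, ?_⟩
      rw [map_add, map_mul, map_mul, map_pow, map_pow, ← hr, ← hq, pow_add]
      ring
    | mul x y _ _ hx hy =>
      obtain ⟨n, r, hr⟩ := hx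
      obtain ⟨m, q, hq⟩ := hy
      exact ⟨n + m, r * q, by rw [map_mul, ← hr, ← hq, pow_add]; ring⟩
  obtain ⟨n, r, hr⟩ := this w w.2
  refine ⟨r, n, hinj ?_⟩
  rw [map_mul, ← hr, map_pow, ← mul_assoc]
  have h1 : algebraMap R K a * (w : K) = 1 := congrArg Subtype.val hw
  rw [h1, one_mul]

/-- The main criterion. -/
theorem exists_isClosed_of_locallyOfFiniteType {S : Scheme.{u}} {K : Type u} [Field K]
    (f : Spec (CommRingCat.of K) ⟶ S) [LocallyOfFiniteType f] :
    ∃ (U : S.Opens), IsAffineOpen U ∧ ∃ hu : f (IsLocalRing.closedPoint K) ∈ U,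
      IsClosed ({⟨f (IsLocalRing.closedPoint K), hu⟩} : Set U) := by
  obtain ⟨_, ⟨V, hV, rfl⟩, hfV, -⟩ :=
    S.isBasis_affineOpens.exists_subset_of_mem_open (Set.mem_univ (f (IsLocalRing.closedPoint K))) isOpen_univ
  replace hV : IsAffineOpen V := hV
  let h := IsOpenImmersion.lift hV.fromSpec f (by
    rintro _ ⟨a, rfl⟩
    rw [hV.range_fromSpec, show a = IsLocalRing.closedPoint K from Subsingleton.elim (α := PrimeSpectrum K) _ _]
    exact hfV)
  have hh : h ≫ hV.fromSpec = f := IsOpenImmersion.lift_fac _ _ _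
  obtain ⟨φ, hφ⟩ := Spec.map_surjective h
  have hft : φ.hom.FiniteType := by
    have : LocallyOfFiniteType (h ≫ hV.fromSpec) := by rw [hh]; infer_instance
    have := locallyOfFiniteType_of_comp h hV.fromSpec
    rw [← hφ] at this
    exact (HasRingHomProperty.Spec_iff (P := @LocallyOfFiniteType.{u})).1 this
  let p : PrimeSpectrum Γ(S, V) := Spec.map φ (IsLocalRing.closedPoint K)
  let R := Γ(S, V) ⧸ RingHom.ker φ.hom
  have := RingHom.ker_isPrime φ.hom
  have : IsDomain R := Ideal.Quotient.isDomain _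
  algebraize_only [RingHom.kerLift φ.hom]
  have hinj : Function.Injective (RingHom.kerLift φ.hom) := RingHom.kerLift_injective φ.hom
  have : FaithfulSMul R K := (faithfulSMul_iff_algebraMap_injective _ _).2 hinj
  have : Algebra.FiniteType R K :=
    RingHom.FiniteType.of_comp_finiteType (f := Ideal.Quotient.mk _) (show ((RingHom.kerLift φ.hom).comp (Ideal.Quotient.mk _)).FiniteType from hft)
  obtain ⟨g, hg, hG⟩ := exists_inv_mem_away (R := R) (K := K)
  obtain ⟨g, rfl⟩ := Ideal.Quotient.mk_surjective g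
  have hfp : f (IsLocalRing.closedPoint K) = hV.fromSpec p := by
    rw [← hh, ← hφ, Scheme.Hom.comp_apply]
  have hpg : g ∉ p.asIdeal := fun hc => by
    have : φ.hom g = 0 := by
      have : φ.hom g ∈ IsLocalRing.maximalIdeal K := hc
      simpa [IsLocalRing.maximalIdeal_eq_bot] using this
    exact hg (Ideal.Quotient.eq_zero_iff_mem.2 this)
  have hmem : f (IsLocalRing.closedPoint K) ∈ S.basicOpen g := by
    rw [hfp]; exact (hV.fromSpec_preimage_basicOpen g).ge hpg
  refine ⟨_, hV.basicOpen g, hmem, ?_⟩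
  have hset : ({⟨_, hmem⟩} : Set (S.basicOpen g)) = Subtype.val ⁻¹' closure ({f (IsLocalRing.closedPoint K)} : Set S) := by
    ext ⟨z, hz⟩
    simp only [Set.mem_singleton_iff, Set.mem_preimage]
    refine ⟨fun h => subset_closure (congrArg Subtype.val h), fun hcl => Subtype.ext ?_⟩
    obtain ⟨q, rfl⟩ : z ∈ Set.range hV.fromSpec := by
      rw [hV.range_fromSpec]; exact S.basicOpen_le g hz
    have hqg : g ∉ PrimeSpectrum.asIdeal q := (hV.fromSpec_preimage_basicOpen g).le hz
    replace hcl : hV.fromSpec p ⤳ hV.fromSpec q := hfp ▸ specializes_iff_mem_closure.2 hcl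
    have hle : p ≤ q := (PrimeSpectrum.le_iff_specializes p q).2
      (hV.fromSpec.isOpenEmbedding.isInducing.specializes_iff.1 hcl)
    refine (congrArg _ (PrimeSpectrum.ext (le_antisymm ?_ hle))).trans hfp.symm
    intro a ha
    by_contra hc
    have ha0 : (Ideal.Quotient.mk _ a : R) ≠ 0 := fun h => hc (by
      change φ.hom a ∈ IsLocalRing.maximalIdeal K
      rw [IsLocalRing.maximalIdeal_eq_bot]
      exact Ideal.mem_bot.2 (RingHom.mem_ker.1 (Ideal.Quotient.eq_zero_iff_mem.1 h)))
    obtain ⟨b, n, hb⟩ := hG _ ha0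
    obtain ⟨b, rfl⟩ := Ideal.Quotient.mk_surjective b
    rw [← map_mul, ← map_pow, Ideal.Quotient.eq, RingHom.mem_ker] at hb
    have h1 : a * b - g ^ n ∈ p.asIdeal := by
      change φ.hom _ ∈ IsLocalRing.maximalIdeal K
      rw [hb]; exact zero_mem _
    have h2 : g ^ n ∈ PrimeSpectrum.asIdeal q := by
      have := Ideal.sub_mem _ (Ideal.mul_mem_right b _ ha) (hle h1)
      simpa using this
    exact hqg (q.2.mem_of_pow_mem n h2)
  rw [hset]
  exact isClosed_closure.preimage continuous_subtype_val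

theorem locallyOfFiniteType_fromSpecResidueField {S : Scheme.{u}} {s : S} (U : S.Opens) (hs : s ∈ U)
    (h : IsClosed ({⟨s, hs⟩} : Set U)) : LocallyOfFiniteType (S.fromSpecResidueField s) := by
  let z : (U : Scheme.{u}) := ⟨s, hs⟩
  have := isClosed_singleton_iff_isClosedImmersion.1 (show IsClosed ({z} : Set (U : Scheme.{u})) from h)
  have h2 : Spec.map (U.ι.residueFieldMap z) ≫ S.fromSpecResidueField (U.ι z) =
      (U : Scheme.{u}).fromSpecResidueField z ≫ U.ι :=
    Scheme.Hom.SpecMap_residueFieldMap_fromSpecResidueField U.ι _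
  have h4 : S.fromSpecResidueField (U.ι z) = inv (Spec.map (U.ι.residueFieldMap z)) ≫
      (U : Scheme.{u}).fromSpecResidueField z ≫ U.ι := by
    rw [IsIso.eq_inv_comp]; exact h2
  show LocallyOfFiniteType (S.fromSpecResidueField (U.ι z))
  rw [h4]
  infer_instance

theorem exists_isClosed {S : Scheme.{u}} {s : S} [LocallyOfFiniteType (S.fromSpecResidueField s)] :
    ∃ U : S.Opens, IsAffineOpen U ∧ ∃ hu : s ∈ U, IsClosed ({⟨s, hu⟩} : Set U) := by
  obtain ⟨U, hU, hu, hc⟩ := exists_isClosed_of_locallyOfFiniteType (K := S.residueField s) (S.fromSpecResidueField s)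
  have e := Scheme.fromSpecResidueField_apply s (IsLocalRing.closedPoint (S.residueField s))
  have key : ∀ y : S, y = s → ∀ hy : y ∈ U, IsClosed ({⟨y, hy⟩} : Set U) →
      ∃ hu : s ∈ U, IsClosed ({⟨s, hu⟩} : Set U) := by
    rintro y rfl hy h
    exact ⟨hy, h⟩
  exact ⟨U, hU, key _ e hu hc⟩

theorem locallyOfFiniteType_fromSpecResidueField_image {S : Scheme.{u}} {K : Type u} [Field K]
    (f : Spec (CommRingCat.of K) ⟶ S) [LocallyOfFiniteType f] {s : S}
    (hs : f (IsLocalRing.closedPoint K) = s) : LocallyOfFiniteType (S.fromSpecResidueField s) := by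
  subst hs
  obtain ⟨U, -, hu, hc⟩ := exists_isClosed_of_locallyOfFiniteType f
  exact locallyOfFiniteType_fromSpecResidueField U hu hc

theorem exists_ftPoint_of_isLocallyClosed {S : Scheme.{u}} {Z : Set S} (hZ : IsLocallyClosed Z)
    (hne : Z.Nonempty) : ∃ z ∈ Z, LocallyOfFiniteType (S.fromSpecResidueField z) := by
  obtain ⟨o, C, ho, hC, rfl⟩ := hZ
  obtain ⟨x, hxo, hxC⟩ := hne
  obtain ⟨_, ⟨V, hV, rfl⟩, hxV, hVo⟩ := S.isBasis_affineOpens.exists_subset_of_mem_open hxo ho
  replace hV : IsAffineOpen V := hV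
  have hVc : CompactSpace (V : Scheme.{u}) := isCompact_iff_compactSpace.1 hV.isCompact
  obtain ⟨z, hz, hzc⟩ := IsClosed.exists_closed_singleton (X := (V : Scheme.{u}))
    (S := (Scheme.Opens.ι V) ⁻¹' C) (hC.preimage (Scheme.Opens.ι V).continuous) ⟨⟨x, hxV⟩, hxC⟩
  exact ⟨z.1, ⟨hVo z.2, hz⟩, locallyOfFiniteType_fromSpecResidueField V z.2 hzc⟩

end Groth.Agent.Lib.FtPoint.Basic
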